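import Mathlib
import Cfsg.Agent.Lib.Sp4e.Big
import Cfsg.Agent.S0205

/-!
# Non-solvable subgroups of `SL₂(2^n)`
-/

set_option autoImplicit false
set_option linter.unusedSectionVars false

namespace H98.S4

open Matrix MatrixGroups Subgroup H98.D3 H29 MulAction

variable {F : Type*} [Field F] [CharP F 2] {D : Subgroup SL(2, F)}

theorem solv_ext {G A : Type*} [Group G] [Group A] (f : G →* A) (h1 : Group.IsSolvable f.ker)
    (h2 : Group.IsSolvable f.range) : Group.IsSolvable G :=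
  Group.isSolvable_of_ker_le_range f.ker.subtype f.rangeRestrict (by simp)

theorem solv_ext' {G A : Type*} [Group G] [CommMonoid A] (f : G →* A)
    (h : ∀ K : Subgroup G, (∀ x ∈ K, f x = 1) → Group.IsSolvable K) : Group.IsSolvable G :=
  solv_ext f.toHomUnits (h _ fun _ hx => congrArg Units.val hx) inferInstance

theorem solv_dih (n : ℕ) : Group.IsSolvable (DihedralGroup n) :=
  solv_ext' (A := ℤˣ)
    { toFun := fun x => match x with | .r _ => 1 | .sr _ => -1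
      map_one' := rfl
      map_mul' := by rintro (a | a) (b | b) <;> simp } fun K h => Group.isSolvable_of_comm (by
    rintro ⟨a | a, ha⟩ ⟨b | b, hb⟩
    · exact Subtype.ext (by simp [add_comm])
    · exact absurd (show (-1 : ℤˣ) = 1 from h _ hb) (by decide)
    all_goals exact absurd (show (-1 : ℤˣ) = 1 from h _ ha) (by decide))

theorem sl_ext {m n : SL(2, F)} (h1 : m.1 0 0 = n.1 0 0) (h2 : m.1 0 1 = n.1 0 1) (h3 : m.1 1 0 = n.1 1 0)
    (h4 : m.1 1 1 = n.1 1 1) : m = n := by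
  ext i j
  fin_cases i <;> fin_cases j <;> assumption

theorem sl_det (m : SL(2, F)) : m.1 0 0 * m.1 1 1 + m.1 0 1 * m.1 1 0 = 1 := by
  have := m.2
  rw [det_fin_two] at this
  grind

theorem sl_mul (m n : SL(2, F)) (i j : Fin 2) : (m * n).1 i j = m.1 i 0 * n.1 0 j + m.1 i 1 * n.1 1 j := by
  simp [mul_apply, Fin.sum_univ_two]

theorem solv_upper (h : ∀ m ∈ D, m.1 1 0 = 0) : Group.IsSolvable D :=
  solv_ext' (A := F)
    { toFun := fun x => x.1.1 0 0
      map_one' := by simp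
      map_mul' := fun x y => by simp [sl_mul, h _ y.2] } fun K k => Group.isSolvable_of_comm fun a b => by
    have a0 : a.1.1.1 0 0 = 1 := k _ a.2
    have b0 : b.1.1.1 0 0 = 1 := k _ b.2
    have a1 := h _ a.1.2
    have b1 := h _ b.1.2
    have a2 := sl_det a.1.1
    have b2 := sl_det b.1.1
    refine Subtype.ext (Subtype.ext (sl_ext ?_ ?_ ?_ ?_)) <;> simp only [Subgroup.coe_mul, sl_mul] <;> grind

/-- the transvections -/
def t2 (p q : F) : SL(2, F) := mkSL (1 + p * q) (p ^ 2) (q ^ 2) (1 + p * q) (by grind)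

theorem conj_t2 (m : SL(2, F)) (p q : F) :
    m * t2 p q * m⁻¹ = t2 (m.1 0 0 * p + m.1 0 1 * q) (m.1 1 0 * p + m.1 1 1 * q) := by
  have := sl_det m
  rw [mul_inv_eq_iff_eq_mul]
  refine sl_ext ?_ ?_ ?_ ?_ <;> simp only [sl_mul] <;> simp [t2, mkSL] <;> grind

theorem up_t2 (s : F) : up (s ^ 2) = t2 s 0 := by
  refine sl_ext ?_ ?_ ?_ ?_ <;> simp [t2, up, mkSL]
theorem lo_t2 (s : F) : lo (s ^ 2) = t2 0 s := by
  refine sl_ext ?_ ?_ ?_ ?_ <;> simp [t2, lo, mkSL]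

theorem tr_two {m : SL(2, F)} {n : ℕ} (h : m ^ 2 ^ n = 1) : m.1 0 0 + m.1 1 1 = 0 := by
  induction n generalizing m with
  | zero => rw [pow_zero, pow_one] at h; simp [h, CharTwo.add_self_eq_zero]
  | succ n ih =>
    have := ih (m := m * m) (by rwa [← sq, ← pow_mul, ← pow_succ'])
    simp only [sl_mul] at this
    exact pow_eq_zero_iff (two_ne_zero (α := ℕ)) |>.1 (by grind)

theorem solv_cj (c : SL(2, F)) (h : Group.IsSolvable (D.comap (MulAut.conj c).toMonoidHom)) :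
    Group.IsSolvable D :=
  Group.isSolvable_of_surjective ((MulAut.conj c).toMonoidHom.subgroupComap_surjective_of_surjective D
    (MulAut.conj c).surjective)

variable [Finite F]

theorem eq_t2 {m : SL(2, F)} (h : m * m = 1) : ∃ p q, m = t2 p q := by
  obtain ⟨p, hp⟩ := exists_sq (m.1 0 1)
  obtain ⟨q, hq⟩ := exists_sq (m.1 1 0)
  have h1 := tr_two (m := m) (n := 1) (by rwa [pow_one, sq])
  have h2 := sl_det m
  have h3 : m.1 0 0 = 1 + p * q := CharTwo.sq_injective (by grind)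
  refine ⟨p, q, sl_ext ?_ ?_ ?_ ?_⟩ <;> simp [t2, mkSL] <;> grind

theorem exists_pair (hs : ¬ Group.IsSolvable D) {p q : F} (h1 : t2 p q ≠ 1) :
    ∃ m ∈ D, p * (m.1 1 0 * p + m.1 1 1 * q) + q * (m.1 0 0 * p + m.1 0 1 * q) ≠ 0 := by
  by_contra H
  push Not at H
  obtain ⟨r, s, h⟩ : ∃ r s, p * s - r * q = 1 := by
    by_cases hp : p = 0
    · have hq : q ≠ 0 := fun hq => h1 (by refine sl_ext ?_ ?_ ?_ ?_ <;> simp [t2, mkSL, hp, hq])
      exact ⟨q⁻¹, 0, by grind⟩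
    · exact ⟨0, p⁻¹, by grind⟩
  refine hs (solv_cj (mkSL p r q s h) (solv_upper fun m hm => ?_))
  have := H _ hm
  have e : mkSL p r q s h * m * (mkSL p r q s h)⁻¹ * mkSL p r q s h = mkSL p r q s h * m := by group
  have e0 := congrArg (·.1 0 0) e
  have e1 := congrArg (·.1 1 0) e
  change p * ((mkSL p r q s h * m * (mkSL p r q s h)⁻¹).1 1 0 * p + (mkSL p r q s h * m * (mkSL p r q s h)⁻¹).1 1 1 * q) +
    q * ((mkSL p r q s h * m * (mkSL p r q s h)⁻¹).1 0 0 * p + (mkSL p r q s h * m * (mkSL p r q s h)⁻¹).1 0 1 * q) = 0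
    at this
  generalize mkSL p r q s h * m * (mkSL p r q s h)⁻¹ = n at this e0 e1
  simp only [sl_mul] at e0 e1
  simp [mkSL] at e0 e1
  grind

theorem sl2_O2 (hs : ¬ Group.IsSolvable D) {R : Subgroup SL(2, F)} (hR : IsPGroup 2 R)
    (hn : ∀ m ∈ D, ∀ r ∈ R, m * r * m⁻¹ ∈ R) : R = ⊥ := by
  by_contra h
  have : Nontrivial R := (nontrivial_iff_ne_bot R).2 h
  obtain ⟨⟨r, hr⟩, h2⟩ := exists_prime_orderOf_dvd_card' 2 (G := R) (by
    obtain ⟨n, h1, h2⟩ := hR.nontrivial_iff_card.1 this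
    exact h2 ▸ dvd_pow_self 2 h1.ne')
  rw [← Subgroup.orderOf_coe] at h2
  obtain ⟨p, q, rfl⟩ := eq_t2 (m := r) (by rw [← sq]; exact orderOf_dvd_iff_pow_eq_one.1 h2.dvd)
  obtain ⟨m, hm, h3⟩ := exists_pair hs (p := p) (q := q) fun e => by simp [e] at h2
  obtain ⟨n, h4⟩ := hR ⟨_, mul_mem hr (hn m hm _ hr)⟩
  have h5 := tr_two (m := t2 p q * (m * t2 p q * m⁻¹)) (n := n) (congrArg Subtype.val h4)
  rw [conj_t2] at h5
  simp only [sl_mul] at h5
  simp [t2, mkSL] at h5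
  exact h3 (pow_eq_zero_iff (two_ne_zero (α := ℕ)) |>.1 (by grind))

theorem lemD' (hs : ¬ Group.IsSolvable D) {x : F} (hx : x ≠ 0) (h1 : up 1 ∈ D) (h2 : lo x ∈ D) :
    ∃ k : Subfield F, (∃ s ∈ k, s ≠ 0 ∧ s ≠ 1) ∧ (∀ a, up a ∈ D ↔ a ∈ k) ∧ ∀ a ∈ k, lo a ∈ D := by
  rcases lemD D hx h1 h2 with ⟨-, h3, -⟩ | ⟨k, h3, h4, h5, h6⟩
  swap
  · have h7 := h6.resolve_right fun e => not_three e.1
    exact ⟨k, h3, h4, fun a ha => by
      simpa [hx] using (h5 (a * x⁻¹)).2 (mul_mem ha (inv_mem h7))⟩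
  exfalso
  have hL : CharP (AlgebraicClosure F) 2 := (Algebra.charP_iff F _ 2).1 inferInstance
  have hfin : Finite (D.map (toP F)) := Finite.of_surjective _ (MonoidHom.subgroupMap_surjective (toP F) D)
  have hfix : toP F (up 1) • ptInf (AlgebraicClosure F) = ptInf _ := by
    rw [toP_apply, ptInf, pgl_smul_mk, mk_eq_iff_cross, mulVec_two, mulVec_two]
    simp [up, mkSL_val]
  rcases dickson_wild 2 (D.map (toP F)) (g := toP F (up 1)) ⟨_, h1, rfl⟩
    (fun e => one_ne_zero (oneP_up.inj _ e))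
    (by rw [← map_pow, ← oneP_up.nsmul, CharP.cast_eq_zero, zero_mul, up_zero, map_one]) hfix with
    h | ⟨-, k, -, -, -, ⟨e⟩⟩ | ⟨h, -⟩ | ⟨k, c, hk, h4, h⟩
  · have := h _ ⟨_, h2, rfl⟩
    rw [toP_apply, ptInf, pgl_smul_mk, mk_eq_iff_cross, mulVec_two, mulVec_two] at this
    simp [lo, mkSL_val] at this
    exact hx ((map_eq_zero _).1 this.symm)
  · have := solv_dih k
    have : Group.IsSolvable (D.map (toP F)) := Group.isSolvable_of_surjective (f := e.symm.toMonoidHom) e.symm.surjective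
    refine hs (solv_ext ((toP F).subgroupMap D) (Group.isSolvable_of_comm fun a b => ?_) inferInstance)
    obtain ⟨a1, a2⟩ := toP_eq_one (congrArg Subtype.val a.2)
    obtain ⟨b1, b2⟩ := toP_eq_one (congrArg Subtype.val b.2)
    refine Subtype.ext (Subtype.ext (sl_ext ?_ ?_ ?_ ?_)) <;> simp only [Subgroup.coe_mul, sl_mul] <;> grind
  · omega
  · have hPG := h.resolve_right fun e => e.1 rfl
    obtain ⟨s, hs0, hs1⟩ : ∃ s : k, s ≠ 0 ∧ s ≠ 1 := by
      classical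
      by_contra hc
      push Not at hc
      have := Fintype.ofFinite k
      have : (Finset.univ : Finset k) ⊆ {0, 1} := fun s _ => by
        by_cases h0 : s = 0 <;> simp [h0, hc s]
      have := (Finset.card_le_card this).trans Finset.card_le_two
      rw [Finset.card_univ, ← Nat.card_eq_fintype_card] at this
      omega
    obtain ⟨s', e, h5⟩ := oneP_up.scale hPG.le ((PS_le_PG k).trans hPG.ge) one_ne_zero h1 s.2
    have h6 : s' = 0 ∨ s' = 1 := by
      have := h3 _ h5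
      grind
    rcases h6 with rfl | rfl
    · exact hs0 (Subtype.ext (by simpa using e.symm))
    · exact hs1 (Subtype.ext (by simpa using e.symm))

theorem sl2_ns (hs : ¬ Group.IsSolvable D) : ∃ (c : SL(2, F)) (k : Subfield F), (∃ s ∈ k, s ≠ 0 ∧ s ≠ 1) ∧
    (∀ a, c * up a * c⁻¹ ∈ D ↔ a ∈ k) ∧ ∀ a ∈ k, c * lo a * c⁻¹ ∈ D := by
  obtain ⟨⟨r, hr⟩, h2⟩ := exists_prime_orderOf_dvd_card' 2 (G := D)
    (even_iff_two_dvd.1 (Nat.not_odd_iff_even.1 fun h => hs (Cfsg.Agent.S0205.result h)))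
  rw [← Subgroup.orderOf_coe] at h2
  obtain ⟨p, q, rfl⟩ := eq_t2 (m := r) (by rw [← sq]; exact orderOf_dvd_iff_pow_eq_one.1 h2.dvd)
  obtain ⟨m, hm, h3⟩ := exists_pair hs (p := p) (q := q) fun e => by simp [e] at h2
  have h4 := conj_t2 m p q ▸ mul_mem (mul_mem hm hr) (inv_mem hm)
  generalize m.1 0 0 * p + m.1 0 1 * q = p', m.1 1 0 * p + m.1 1 1 * q = q' at h3 h4
  obtain ⟨d, hd⟩ : ∃ d, d = p * q' + q * p' := ⟨_, rfl⟩
  rw [← hd] at h3
  refine ⟨mkSL p (p' / d) q (q' / d) (by grind), lemD' (mt (solv_cj _) hs) (pow_ne_zero 2 h3) ?_ ?_⟩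
  · change _ * up 1 * _ ∈ D
    rw [← one_pow 2, up_t2, conj_t2]
    simpa [mkSL] using hr
  · change _ * lo _ * _ ∈ D
    rw [lo_t2, conj_t2]
    simpa [mkSL, h3] using h4

end H98.S4
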