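import Mathlib
import Cfsg.Agent.Lib.Sp4e.Comp
import Cfsg.Agent.Lib.Sp4e.SL2

/-!
# With small root groups all `2`-local subgroups are solvable
-/

set_option autoImplicit false
set_option linter.unusedSectionVars false

namespace H98.S4

open Matrix MatrixGroups Subgroup H98.D3 H29

variable {F : Type*} [Field F] [CharP F 2] {a : V4 F} {g : M4 F}
  {X : Type*} [Group X] {ρ : X →* M4 F} {x y z : X}

/-- the shape of the matrices fixing the first basis vector -/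
def P (p q r f j A B C D : F) : M4 F := !![1, p, q, r; 0, A, B, f; 0, C, D, j; 0, 0, 0, 1]

theorem eq_P (hg : Sp g) (h0 : g *ᵥ e 0 = e 0) : ∃ p q r f j, g = P p q r f j (g 1 1) (g 1 2) (g 2 1) (g 2 2) ∧
    g 1 1 * g 2 2 + g 1 2 * g 2 1 = 1 ∧ p = g 1 1 * j + g 2 1 * f ∧ q = g 1 2 * j + g 2 2 * f := by
  have a0 := fun i => (mulVec_e g 0 i).symm.trans (congrFun h0 i)
  have r := fun i j => hg (e i) (e j)
  simp only [om, mulVec_e] at r
  have r01 := r 0 1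
  have r02 := r 0 2
  have r03 := r 0 3
  have r12 := r 1 2
  have r13 := r 1 3
  have r23 := r 2 3
  simp [a0, e] at r01 r02 r03 r12 r13 r23
  refine ⟨g 0 1, g 0 2, g 0 3, g 1 3, g 2 3, ?_, by grind, by grind, by grind⟩
  ext i j
  fin_cases i <;> fin_cases j <;> simp [P, a0, e, r01, r02, r03]

/-- the stabilizer of the first basis vector -/
def fix0 (ρ : X →* M4 F) : Subgroup X where
  carrier := {x | ρ x *ᵥ e 0 = e 0}
  mul_mem' {x y} (hx : _ = _) (hy : _ = _) := show _ = _ by rw [mv_mul, hy, hx]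
  one_mem' := show _ = _ by rw [map_one, one_mulVec]
  inv_mem' {x} (hx : _ = _) := show _ = _ by rw [← hx, mv_inv, hx]

/-- the action on `e₀^⊥ / e₀` -/
def R4.al (h : R4 ρ) : fix0 ρ →* SL(2, F) where
  toFun x := mkSL (ρ x 1 1) (ρ x 1 2) (ρ x 2 1) (ρ x 2 2) (by
    obtain ⟨p, q, r, f, j, -, k, -⟩ := eq_P (h.sp x) x.2
    grind)
  map_one' := sl_ext (by simp [mkSL]) (by simp [mkSL]) (by simp [mkSL]) (by simp [mkSL])
  map_mul' x y := by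
    obtain ⟨p, q, r, f, j, k, -⟩ := eq_P (h.sp x) x.2
    obtain ⟨p', q', r', f', j', k', -⟩ := eq_P (h.sp y) y.2
    have a1 := congrFun (congrFun k 1) 0
    have a2 := congrFun (congrFun k 2) 0
    have b1 := congrFun (congrFun k' 3) 1
    have b2 := congrFun (congrFun k' 3) 2
    simp [P] at a1 a2 b1 b2
    refine sl_ext ?_ ?_ ?_ ?_ <;> simp only [sl_mul] <;>
      simp [mkSL, mul_apply, Fin.sum_univ_four, a1, a2, b1, b2]

theorem R4.al_val (h : R4 ρ) (x : fix0 ρ) : (h.al x).1 = !![ρ x 1 1, ρ x 1 2; ρ x 2 1, ρ x 2 2] := rfl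

theorem R4.al_P (h : R4 ρ) {x : fix0 ρ} {m : SL(2, F)} (e : h.al x = m) :
    ∃ f j r, ρ x = P (m.1 0 0 * j + m.1 1 0 * f) (m.1 0 1 * j + m.1 1 1 * f) r f j
      (m.1 0 0) (m.1 0 1) (m.1 1 0) (m.1 1 1) := by
  subst e
  obtain ⟨p, q, r, f, j, k, -, rfl, rfl⟩ := eq_P (h.sp x) x.2
  exact ⟨f, j, r, k⟩

theorem R4.al_up (h : R4 ρ) {x : fix0 ρ} {u : F} (e : h.al x = up u) : ∃ t b c, ρ x = U t u b c := by
  obtain ⟨f, j, r, k⟩ := h.al_P e
  refine ⟨j, u * j + f, r, k.trans ?_⟩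
  ext i j
  fin_cases i <;> fin_cases j <;> simp [P, U, up, mkSL]
  grind

theorem R4.al_conj (h : R4 ρ) {x : fix0 ρ} {m : SL(2, F)} (e : h.al x = m) {t b c : F} (hz : ρ z = U t 0 b c) :
    ρ (x * z * (x : X)⁻¹) = U (m.1 1 0 * b + m.1 1 1 * t) 0 (m.1 0 0 * b + m.1 0 1 * t) c := by
  obtain ⟨f, j, r, k⟩ := h.al_P e
  have := sl_det m
  have : ρ x * U t 0 b c = U (m.1 1 0 * b + m.1 1 1 * t) 0 (m.1 0 0 * b + m.1 0 1 * t) c * ρ x := by
    rw [k]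
    ext i j
    fin_cases i <;> fin_cases j <;> simp [P, U, mul_apply, Fin.sum_univ_four] <;> grind
  rw [map_mul, map_mul, hz, this, mul_assoc, ← map_mul, mul_inv_cancel, map_one, mul_one]

/-- `SL₂` on the middle coordinates -/
def mid (m : SL(2, F)) : M4 F := P 0 0 0 0 0 (m.1 0 0) (m.1 0 1) (m.1 1 0) (m.1 1 1)

theorem sp_mid (m : SL(2, F)) : Sp (mid m) := fun u v => by
  have := sl_det m
  simp [om, mid, P, mv_apply]
  grind

theorem mid_e0 (m : SL(2, F)) : mid m *ᵥ e 0 = e 0 := by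
  ext i; fin_cases i <;> simp [mid, P, e]

theorem fix0_cj {B : M4 F} (hB : Sp B) (h : B *ᵥ e 0 = a) (hx : ρ x *ᵥ a = a) : x ∈ fix0 (cj hB ρ) :=
  show _ = _ by rw [← hB.adj_mv (_ *ᵥ _), cj_mv, h, hx, ← h, hB.adj_mv]

theorem R4.al_cj (h : R4 ρ) (c : SL(2, F)) (hx : x ∈ fix0 ρ) (hx' : x ∈ fix0 (S4.cj (sp_mid c) ρ)) :
    c * (h.cj (sp_mid c)).al ⟨x, hx'⟩ * c⁻¹ = h.al ⟨x, hx⟩ := by
  obtain ⟨f, j, r, k⟩ := h.al_P (x := ⟨x, hx⟩) rfl
  obtain ⟨f', j', r', k'⟩ := (h.cj (sp_mid c)).al_P (x := ⟨x, hx'⟩) rfl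
  have k1 : mid c * S4.cj (sp_mid c) ρ x = ρ x * mid c := by
    rw [cj_apply, ← mul_assoc, ← mul_assoc, (sp_mid c).mul_adj, one_mul]
  rw [k, k'] at k1
  have a1 := congrFun (congrFun k1 1) 1
  have a2 := congrFun (congrFun k1 1) 2
  have a3 := congrFun (congrFun k1 2) 1
  have a4 := congrFun (congrFun k1 2) 2
  simp [mid, P, mul_apply, Fin.sum_univ_four] at a1 a2 a3 a4
  rw [mul_inv_eq_iff_eq_mul]
  refine sl_ext ?_ ?_ ?_ ?_ <;> simp only [sl_mul] <;> assumption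

/-- the diagonal elements -/
theorem diag_eq {μ : F} (h : μ ≠ 0) : up μ * lo μ⁻¹ * up μ * (up 1 * lo 1 * up 1) =
    mkSL μ 0 0 μ⁻¹ (by simp [h]) := by
  refine sl_ext ?_ ?_ ?_ ?_ <;> simp only [sl_mul] <;> simp [up, lo, mkSL] <;> grind

variable [Finite F] [Finite X]

theorem R4.pt2 (h : R4 ρ) (hb : ¬ BigL ρ) (hi : ∀ M : Subgroup X, M.index ≠ 2) {k : Subfield F}
    (big : ∃ s ∈ k, s ≠ 0 ∧ s ≠ 1) (hup : ∀ a, up a ∈ h.al.range ↔ a ∈ k) (hlo : ∀ a ∈ k, lo a ∈ h.al.range)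
    (hz : z ∈ fix0 ρ) (z1 : z ≠ 1) (ez : h.al ⟨z, hz⟩ = 1) : False := by
  obtain ⟨s, hs, s0, s1⟩ := big
  have k1 := one_mem k
  have tor : ∀ μ ∈ k, ∀ h0 : μ ≠ 0, ∃ x, h.al x = mkSL μ 0 0 μ⁻¹ (by simp [h0]) := fun μ hμ h0 =>
    diag_eq h0 ▸ mul_mem (mul_mem (mul_mem ((hup _).2 hμ) (hlo _ (inv_mem hμ))) ((hup _).2 hμ))
      (mul_mem (mul_mem ((hup _).2 k1) (hlo _ k1)) ((hup _).2 k1))
  have nb : ∀ x y c l, c ≠ 0 → l ≠ 0 → ρ x = U 0 0 0 c → ρ y = U 0 0 0 (l * c) → l = 1 :=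
    fun x y c l c0 l0 e1 e2 => by_contra fun l1 => by
      obtain ⟨c, rfl⟩ := exists_sq c
      obtain ⟨l, rfl⟩ := exists_sq l
      refine hb ⟨c • S4.e 0, l, smul_ne_zero (by rintro rfl; simp at c0) (e_ne 0), by rintro rfl; simp at l0,
        by rintro rfl; simp at l1, ⟨x, by simpa [e1] using (tv_U c 0).symm⟩, y, ?_⟩
      simpa [e2, smul_smul, mul_pow] using (tv_U (l * c) 0).symm
  have B1 : ∀ x t b c, ρ x = U t 0 b c → t = 0 := fun x t b c e => by_contra fun t0 => by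
    have Z : ∀ a ∈ k, ∃ y, ρ y = U 0 0 (a * t) (a * t ^ 2) := fun a ha => by
      obtain ⟨y, ey⟩ := (hup a).2 ha
      exact ⟨x * (y * x * (y : X)⁻¹), by rw [map_mul, h.al_conj ey e, e, U_mul, U_inj]; simp [up, mkSL]; grind⟩
    have L : ∀ a ∈ k, ∃ y, ρ y = U 0 0 0 (a * ((1 + s) * t ^ 2)) := fun a ha => by
      obtain ⟨y, ey⟩ := Z a ha
      obtain ⟨y', ey'⟩ := Z _ (mul_mem hs ha)
      obtain ⟨w, ew⟩ := tor s hs s0
      exact ⟨y' * (w * y * (w : X)⁻¹), by rw [map_mul, h.al_conj ew ey, ey', U_mul, U_inj]; simp [mkSL]; grind⟩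
    obtain ⟨y, ey⟩ := L 1 k1
    obtain ⟨y', ey'⟩ := L s hs
    exact s1 (nb y y' _ s (by grind) s0 (by rwa [one_mul] at ey) ey')
  have B2 : ∀ x t b c, ρ x = U t 0 b c → b = 0 := fun x t b c e => by
    obtain ⟨y, ey⟩ := hlo 1 k1
    simpa [lo, mkSL, B1 _ _ _ _ e] using B1 _ _ _ _ (h.al_conj ey e)
  obtain ⟨t, b, c0, e0⟩ := h.al_up (ez.trans up_zero.symm)
  obtain rfl := B1 _ _ _ _ e0
  obtain rfl := B2 _ _ _ _ e0
  have h0 : c0 ≠ 0 := by rintro rfl; exact z1 (h.inj (by rw [e0, U_zero, map_one]))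
  have B3 : ∀ x c, ρ x = U 0 0 0 c → c = 0 ∨ c = c0 := fun x c e => by
    by_cases hc : c = 0
    · exact .inl hc
    · have := nb z x c0 (c / c0) h0 (div_ne_zero hc h0) e0 (by rwa [div_mul_cancel₀ _ h0])
      grind
  have ex : ∀ u ∈ k, ∃ x b c, ρ x = U 0 u b c := fun u hu => by
    obtain ⟨y, ey⟩ := (hup u).2 hu
    obtain ⟨t, b, c, e⟩ := h.al_up ey
    have : t = 0 := by
      by_cases u0 : u = 0
      · exact B1 _ _ _ _ (u0 ▸ e)
      · exact (mul_eq_zero.1 (B2 (y * y) _ _ _ (by rw [map_mul, e, U_sq]))).resolve_right u0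
    exact ⟨y, b, c, this ▸ e⟩
  have mem : ∀ x u b c, ρ x = U 0 u b c → u ∈ k := fun x u b c e =>
    (hup u).1 ⟨⟨x, show _ = _ by rw [e]; ext i; fin_cases i <;> simp [U, S4.e]⟩, by
      refine sl_ext ?_ ?_ ?_ ?_ <;> simp [R4.al_val, up, mkSL, e, U]⟩
  have tor' : ∀ μ ∈ k, μ ≠ 0 → ∃ (x : X) (p : F), ρ x *ᵥ S4.e 0 = (1 : F) • S4.e 0 + (0 : F) • S4.e 1 ∧
      ρ x *ᵥ S4.e 1 = p • S4.e 0 + μ • S4.e 1 := fun μ hμ μ0 => by
    obtain ⟨w, ew⟩ := tor μ hμ μ0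
    obtain ⟨f, j, r, e⟩ := h.al_P ew
    refine ⟨w, μ * j, by rw [one_smul, zero_smul, add_zero]; exact w.2, ?_⟩
    rw [e]; ext i; fin_cases i <;> simp [P, S4.e, mkSL]
  obtain ⟨κ, hκ⟩ : ∃ κ : F, ∀ x u b c, ρ x = U 0 u b c → κ ^ 2 * u + c = 0 ∨ κ ^ 2 * u + c = c0 := by
    obtain ⟨w, p, a0, a1⟩ := tor' s hs s0
    have s2 : 1 + s ≠ 0 := by grind
    refine ⟨p / (1 + s), fun x u b c e => ?_⟩
    obtain ⟨y, b', c', e'⟩ := ex (u / (1 + s) ^ 2) (div_mem (mem _ _ _ _ e) (pow_mem (add_mem k1 hs) 2))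
    have e2 := map_mul ρ x (y * (w * y * w⁻¹))
    rw [map_mul ρ y, h.conjA a0 a1 e', e', e, U_mul, U_mul] at e2
    have e3 : ∃ b, ρ (x * (y * (w * y * w⁻¹))) = U 0 0 b ((p / (1 + s)) ^ 2 * u + c) :=
      ⟨_, by rw [e2, U_inj]; refine ⟨by simp, by grind, rfl, by grind⟩⟩
    obtain ⟨b, e3⟩ := e3
    exact B3 _ _ (B2 _ _ _ _ e3 ▸ e3)
  have hC : Sp (cols (κ • (e 0 : V4 F) + (1 : F) • (e 1 : V4 F)) ((1 : F) • (e 0 : V4 F) + (0 : F) • (e 1 : V4 F))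
      ((e 3 : V4 F) + κ • (e 2 : V4 F)) (e 2)) := by
    refine sp_cols ?_ ?_ ?_ ?_ ?_ ?_ <;> simp [om, e, CharTwo.add_self_eq_zero]
  have tr := fun x u b c => cj_eq (ρ := ρ) (x := x) hC (S4.conjA hC cols_e0 cols_e1 u b c)
  refine (h.cj hC).comp (mt (BigL.of_cj hC) hb) hi (k := k) h0 (x0 := z) ((tr _ _ _ _).2 (by simpa using e0))
    (fun x u b e => by simpa using B2 x 0 _ _ (by simpa using (tr _ _ _ _).1 e))
    (fun x u b c e => ?_) (fun u hu => ?_) (fun μ hμ μ0 => ?_) ⟨s, hs, s0, s1⟩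
  · have := (tr _ _ _ _).1 e
    refine ⟨by simpa using mem _ _ _ _ this, ?_⟩
    have := hκ _ _ _ _ this
    grind
  · obtain ⟨x, b, c, e⟩ := ex u hu
    exact ⟨x, κ ^ 2 * u + c, κ * u + b, (tr _ _ _ _).2 (by rw [e, U_inj]; grind)⟩
  · obtain ⟨x, p, a0, a1⟩ := tor' μ hμ μ0
    refine ⟨x, p + κ + μ * κ, ?_, ?_⟩ <;> rw [← hC.adj_mv (_ *ᵥ _), cj_mv]
    · have a2 : ρ x *ᵥ ((1 : F) • (e 0 : V4 F) + (0 : F) • (e 1 : V4 F)) =
          (1 : F) • (e 0 : V4 F) + (0 : F) • (e 1 : V4 F) := by simpa using a0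
      rw [cols_e1, a2]
      exact (congrArg _ cols_e1.symm).trans (hC.adj_mv _)
    · rw [← hC.adj_mv (μ • _ + _), mulVec_add, mulVec_smul, mulVec_smul, cols_e0, cols_e1, mulVec_add, mulVec_smul,
        mulVec_smul, a0, a1]
      congr 1
      ext i; simp; grind

theorem R4.pt1 (h : R4 ρ) (hb : ¬ BigL ρ) (hi : ∀ M : Subgroup X, M.index ≠ 2) {N Q : Subgroup X}
    (hN : N ≤ fix0 ρ) (hQ : Q ≤ fix0 ρ) (h2 : IsPGroup 2 Q) (h1 : Q ≠ ⊥) (hn : ∀ x ∈ N, ∀ y ∈ Q, x * y * x⁻¹ ∈ Q) :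
    Group.IsSolvable N := by
  by_contra hs
  have hD : ¬ Group.IsSolvable (h.al.comp (inclusion hN)).range := fun k => hs (solv_ext _ (by
    have : IsPGroup 2 (h.al.comp (inclusion hN)).ker := fun x => by
      obtain ⟨t, b, c, e⟩ := h.al_up (x.2.trans up_zero.symm)
      exact ⟨2, Subtype.ext (Subtype.ext (h.inj (by
        change ρ (x.1.1 ^ 4) = ρ 1
        rw [map_pow, map_one, show ρ x.1.1 = _ from e, U_pow])))⟩
    have := this.isNilpotent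
    infer_instance) k)
  have hR := sl2_O2 hD (R := (h.al.comp (inclusion hQ)).range) (h2.of_surjective _ (MonoidHom.rangeRestrict_surjective _))
    (by
      rintro _ ⟨x, rfl⟩ _ ⟨y, rfl⟩
      exact ⟨⟨_, hn x x.2 y y.2⟩, by simp only [MonoidHom.comp_apply, ← map_mul, ← map_inv]; rfl⟩)
  obtain ⟨z, hz, z1⟩ := (Q.bot_or_exists_ne_one).resolve_left h1
  have ez : h.al ⟨z, hQ hz⟩ = 1 := mem_bot.1 (hR.le ⟨⟨z, hz⟩, rfl⟩)
  obtain ⟨c, k, big, hup, hlo⟩ := sl2_ns (D := h.al.range) fun k => hD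
    (Group.isSolvable_of_isSolvable_injective (inclusion_injective (by rintro _ ⟨x, rfl⟩; exact ⟨_, rfl⟩ :
      (h.al.comp (inclusion hN)).range ≤ h.al.range)))
  have hC := sp_mid c
  have f1 : ∀ x ∈ fix0 ρ, x ∈ fix0 (S4.cj hC ρ) := fun x hx => fix0_cj hC (mid_e0 c) hx
  have key : ∀ m, m ∈ (h.cj hC).al.range ↔ c * m * c⁻¹ ∈ h.al.range := fun m => by
    constructor
    · rintro ⟨⟨x, hx⟩, rfl⟩
      exact ⟨⟨x, show _ = _ by rw [← mid_e0 c, ← cj_mv hC, show _ = _ from hx]⟩, (h.al_cj c _ hx).symm⟩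
    · rintro ⟨⟨x, hx⟩, e⟩
      exact ⟨⟨x, f1 x hx⟩, by simpa using (h.al_cj c hx (f1 x hx)).trans e⟩
  refine (h.cj hC).pt2 (mt (BigL.of_cj hC) hb) hi big (fun a => (key _).trans (hup a))
    (fun a ha => (key _).2 (hlo a ha)) (f1 z (hQ hz)) z1 ?_
  simpa using (h.al_cj c _ (f1 z (hQ hz))).trans ez

theorem R4.pt0 (h : R4 ρ) (hb : ¬ BigL ρ) (hi : ∀ M : Subgroup X, M.index ≠ 2) {Q : Subgroup X}
    (h2 : IsPGroup 2 Q) (h1 : Q ≠ ⊥) (ha : a ≠ 0)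
    (H : ∀ x ∈ normalizer (Q : Set X), ∃ s : F, ρ x *ᵥ a = s • a) : Group.IsSolvable (normalizer (Q : Set X)) := by
  obtain ⟨B, hB, e⟩ := exists_sp1 ha
  choose s hs using fun x : normalizer (Q : Set X) => H x x.2
  refine solv_ext' (A := F) ⟨⟨s, ?_⟩, fun x y => ?_⟩ fun K hK => ?_
  · exact smul_left_injective F ha (by simpa using (hs 1).symm)
  · exact smul_left_injective F ha (by
      simp only [← hs, Subgroup.coe_mul, mv_mul, mul_comm (s x), mul_smul]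
      rw [hs y, mulVec_smul])
  have := (h.cj hB).pt1 (mt (BigL.of_cj hB) hb) hi (N := K.map (Subgroup.subtype _)) (Q := Q) (by
      rintro _ ⟨x, hx, rfl⟩
      exact fix0_cj hB e (by rw [Subgroup.coe_subtype, hs, show s x = 1 from hK x hx, one_smul]))
    (fun x hx => by
      obtain ⟨n, hn⟩ := h2 ⟨x, hx⟩
      have := hs ⟨x, le_normalizer hx⟩
      exact fix0_cj hB e (by rw [this, eig_one (n := n) (congrArg Subtype.val hn) ha this, one_smul])) h2 h1 (by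
      rintro _ ⟨x, -, rfl⟩ y hy
      exact (mem_normalizer_iff.1 x.2 y).1 hy)
  exact Group.isSolvable_of_surjective (f := (K.equivMapOfInjective _ (Subgroup.subtype_injective _)).symm.toMonoidHom)
    (MulEquiv.surjective _)

theorem span_of_perp {b w : V4 F} (h : om a b = 0) (hp : pl a b ≠ 0) (h1 : om w a = 0) (h2 : om w b = 0) :
    ∃ s t : F, w = s • a + t • b := by
  obtain ⟨B, hB, rfl, rfl⟩ := exists_sp2 h hp
  obtain ⟨v, rfl⟩ : ∃ v, w = B *ᵥ v := ⟨_, (hB.mv_adj w).symm⟩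
  rw [hB] at h1 h2
  refine ⟨v 0, v 1, ?_⟩
  rw [← mulVec_smul, ← mulVec_smul, ← mulVec_add]
  congr 1
  simp [om, e] at h1 h2
  ext i; fin_cases i <;> simp [e, h1, h2]

theorem R4.solv_local (h : R4 ρ) (b1 : ¬ BigL ρ) (b2 : ¬ BigL h.gam) (hi : ∀ M : Subgroup X, M.index ≠ 2)
    {Q : Subgroup X} (h2 : IsPGroup 2 Q) (h1 : Q ≠ ⊥) : Group.IsSolvable (normalizer (Q : Set X)) := by
  let C : V4 F → Prop := fun v => ∀ y ∈ Q, ρ y *ᵥ v = v
  have hC : ∀ x ∈ normalizer (Q : Set X), ∀ v, C v → C (ρ x *ᵥ v) := fun x hx v hv y hy => by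
    rw [← mv_mul, show y * x = x * (x⁻¹ * y * x⁻¹⁻¹) by group, mv_mul,
      hv _ ((mem_normalizer_iff.1 (inv_mem hx) y).1 hy)]
  let W : Submodule F (V4 F) :=
    { carrier := {w | ∀ v, C v → om w v = 0}
      add_mem' := fun h1 h2 v hv => by rw [om_add_left, h1 v hv, h2 v hv, add_zero]
      zero_mem' := fun v _ => om_zero_left v
      smul_mem' := fun s w h1 v hv => by rw [om_smul_left, h1 v hv, mul_zero] }
  have hW : ∀ x ∈ normalizer (Q : Set X), ∀ w ∈ W, ρ x *ᵥ w ∈ W := fun x hx w hw v hv => by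
    rw [h.om_mv, hw _ (hC _ (inv_mem hx) v hv)]
  obtain ⟨z, hz, z1⟩ := (Q.bot_or_exists_ne_one).resolve_left h1
  obtain ⟨v, hv⟩ : ∃ v, ρ z *ᵥ v ≠ v := by
    by_contra H
    push Not at H
    exact z1 (h.inj (ext_mv fun v => by rw [H, map_one, one_mulVec]))
  obtain ⟨a, aW, a0, aC⟩ := exists_fix (ρ := ρ) h2 W (fun x hx => hW x (le_normalizer hx)) (a := ρ z *ᵥ v + v)
    (fun u hu => by rw [om_add_left, h.om_mv, hu _ (inv_mem hz), CharTwo.add_self_eq_zero]) (mt eq_of_add hv)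
  by_cases H : ∀ x ∈ normalizer (Q : Set X), pl a (ρ x *ᵥ a) = 0
  · exact h.pt0 b1 hi h2 h1 a0 fun x hx => dep_of_pl a0 (aW _ (hC x hx a aC)) (H x hx)
  push Not at H
  obtain ⟨y, hy, hp⟩ := H
  have bC := hC y hy a aC
  have bW := hW y hy a aW
  refine h.gam_r4.pt0 b2 hi h2 h1 hp fun x hx => ?_
  obtain ⟨s, t, e1⟩ := span_of_perp (aW _ bC) hp (hW x hx a aW a aC) (hW x hx a aW _ bC)
  obtain ⟨s', t', e2⟩ := span_of_perp (aW _ bC) hp (hW x hx _ bW a aC) (hW x hx _ bW _ bC)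
  refine ⟨s * t' + t * s', ?_⟩
  rw [h.gam_apply, st_pl (h.sp x) (aW _ bC), e1, e2]
  simp only [pl_add_left, pl_add_right, pl_smul_left, pl_smul_right, pl_self, pl_comm _ a]
  module

end H98.S4
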